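import Cfsg.Agent.Lib.Comp.Fast

set_option maxRecDepth 100000
set_option Elab.async false

namespace Cfsg.Lib.Comp.HdM

universe u

def iv : ℕ → ℕ := (fun x => look (nat_lit 0xffef7cefae78df6d74cf2c70beeb6caeaa689e69648e28607de75c6da6585d65544d24503cd38c2ca2481c61440c2040) 6 x)

noncomputable def R : List (List ℕ × ℕ) := (apd [([1],1),
 ([2],1),
 ([3],1),
 ([4],1),
 ([5],1),
 ([6],1),
 ([7],1),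
 ([8],1),
 ([9],1),
 ([10],1),
 ([11],1),
 ([12],1),
 ([1,2,1,2,5],0),
 ([1,3],1),
 ([1,4],1),
 ([1,5],1),
 ([1,6,1,6,8],0),
 ([1,7],1),
 ([1,8],1),
 ([1,9,1,9,10],0),
 ([1,10],1),
 ([2,3,2,3,6],0),
 ([2,4],1),
 ([2,5],1),
 ([2,6],1),
 ([2,7,2,7,9],0),
 ([2,8],1),
 ([2,9],1),
 ([2,10],1),
 ([3,4,3,4,7],0),
 ([3,5,3,5,8],0),
 ([3,6],1),
 ([3,7],1),
 ([3,8],1),
 ([3,9],1),
 ([3,10],1),
 ([4,5],1),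
 ([4,6,4,6,9],0),
 ([4,7],1),
 ([4,8,4,8,10],0)]
 (apd [([4,9],1),
 ([4,10],1),
 ([5,6],1),
 ([5,7,5,7,10],0),
 ([5,8],1),
 ([5,9],1),
 ([5,10],1),
 ([6,7],1),
 ([6,8],1),
 ([6,9],1),
 ([6,10],1),
 ([7,8],1),
 ([7,9],1),
 ([7,10],1),
 ([8,9],1),
 ([8,10],1),
 ([9,10],1),
 ([11,2],2),
 ([11,1],1),
 ([11,3],1),
 ([11,4],1),
 ([11,5,11,5,1],0),
 ([11,6,11,6,3],0),
 ([11,7],1),
 ([11,8],1),
 ([11,9,11,9,7],0),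
 ([11,10],1),
 ([12,3],2),
 ([12,1],1),
 ([12,2],1),
 ([12,4],1),
 ([12,5],1),
 ([12,6,12,6,2],0),
 ([12,7,12,7,4],0),
 ([12,8,12,8,5],0),
 ([12,9],1),
 ([12,10],1),
 ([2,11,2,3,12,3],2),
 ([13],2),
 ([4,13],1)]
 [([13,1,14,8,3,1],0),
 ([13,2,14,8,2],0),
 ([13,3,14,7],0),
 ([13,5,14,8,6,5],0),
 ([13,6,14,9],0),
 ([13,7,14,7,3],0),
 ([13,8,14,10],0),
 ([13,9,14,9,6],0),
 ([13,10,14,10,8],0),
 ([13,11,14,11,8],0),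
 ([12,13],4),
 ([13,14],0)]))

def L : List ℕ := [1,2,3,4,5,6,7,8,9,10,11,12,13,14]

end Cfsg.Lib.Comp.HdM
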