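import Cfsg.Agent.Lib.Comp.HdM.Base

set_option maxRecDepth 100000
set_option Elab.async false

namespace Cfsg.Lib.Comp.HdM

universe u

noncomputable def T2_R : List (List ℕ × ℕ) := (apd [([1],1),
 ([2],1),
 ([3],1),
 ([4],1),
 ([5],1),
 ([6],1),
 ([7],1),
 ([8],1),
 ([9],1),
 ([10],1),
 ([12],1),
 ([1,2,1,2,5],0),
 ([1,3],1),
 ([1,4],1),
 ([1,5],1),
 ([1,6,1,6,8],0),
 ([1,7],1),
 ([1,8],1),
 ([1,9,1,9,10],0),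
 ([1,10],1),
 ([2,3,2,3,6],0),
 ([2,4],1),
 ([2,5],1),
 ([2,6],1),
 ([2,7,2,7,9],0),
 ([2,8],1),
 ([2,9],1),
 ([2,10],1),
 ([3,4,3,4,7],0),
 ([3,5,3,5,8],0),
 ([3,6],1),
 ([3,7],1),
 ([3,8],1),
 ([3,9],1),
 ([3,10],1),
 ([4,5],1),
 ([4,6,4,6,9],0),
 ([4,7],1),
 ([4,8,4,8,10],0),
 ([4,9],1)]
 [([4,10],1),
 ([5,6],1),
 ([5,7,5,7,10],0),
 ([5,8],1),
 ([5,9],1),
 ([5,10],1),
 ([6,7],1),
 ([6,8],1),
 ([6,9],1),
 ([6,10],1),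
 ([7,8],1),
 ([7,9],1),
 ([7,10],1),
 ([8,9],1),
 ([8,10],1),
 ([9,10],1),
 ([12,3],2),
 ([12,1],1),
 ([12,2],1),
 ([12,4],1),
 ([12,5],1),
 ([12,6,12,6,2],0),
 ([12,7,12,7,4],0),
 ([12,8,12,8,5],0),
 ([12,9],1),
 ([12,10],1)])

noncomputable def T2_n_3 : Net :=
 (Net.cons 1 (nat_lit 0x2)
 Net.nil)

noncomputable def T2_n_12 : Net :=
 (Net.cons 1 (nat_lit 0x1)
 Net.nil)

noncomputable def T2_n : List Net := [Net.nil,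
 Net.nil,
 Net.nil,
 T2_n_3,
 Net.nil,
 Net.nil,
 Net.nil,
 Net.nil,
 Net.nil,
 Net.nil,
 Net.nil,
 Net.nil,
 T2_n_12]

theorem T2_n_ok : NetsOK 3 T2_n := netsOK_of (by decide +kernel)

theorem T2_n_rel : Rels (gp T2_n) T2_R := rels_of_relsB (k := 2) T2_n_ok (by norm_num) (by decide +kernel)

theorem T2_fin : finB 3 T2_n [1,2,3,4,5,6,7,8,9,10,12] 3 (runH 3 T2_n (fun x p => ptInv (nth Net.nil T2_n x) p) iv T2_R [] ([1,2,3,4,5,6,7,8,9,10].map fun x => [x]) 0 []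
  [1,5,9,13,17,21,25,29,33,37,8,40,224,228,232,236,240,244,248,252,256,260,48,80,112,116,120,124,128,132,136]
  (defsH 3 T2_n (ones 45) [12,3] (Nat.shiftLeft 1 0) 0)) = true := by decide +kernel

theorem T2_idx : Idx.{u} iv (T2_R ++ []) ([1,2,3,4,5,6,7,8,9,10].map fun x => [x]) [1,2,3,4,5,6,7,8,9,10,12] 3 :=
  Reach.idx T2_n_ok (reach_runH T2_n_ok (fun x p _ => ptInv_gp T2_n_ok x p) T2_n_rel (reach_defsH T2_n_ok _ _ _ _ _ _) _ _) T2_fin (by norm_num)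

end Cfsg.Lib.Comp.HdM
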