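import Cfsg.Agent.Lib.Comp.HdM.Base

set_option maxRecDepth 100000
set_option Elab.async false

namespace Cfsg.Lib.Comp.HdM

universe u

noncomputable def T3_R : List (List ℕ × ℕ) := (apd [([1],1),
 ([2],1),
 ([3],1),
 ([4],1),
 ([5],1),
 ([6],1),
 ([7],1),
 ([8],1),
 ([9],1),
 ([10],1),
 ([1,2,1,2,5],0),
 ([1,3],1),
 ([1,4],1),
 ([1,5],1),
 ([1,6,1,6,8],0),
 ([1,7],1),
 ([1,8],1),
 ([1,9,1,9,10],0),
 ([1,10],1),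
 ([2,3,2,3,6],0),
 ([2,4],1),
 ([2,5],1),
 ([2,6],1),
 ([2,7,2,7,9],0),
 ([2,8],1),
 ([2,9],1),
 ([2,10],1),
 ([3,4,3,4,7],0),
 ([3,5,3,5,8],0),
 ([3,6],1),
 ([3,7],1),
 ([3,8],1),
 ([3,9],1),
 ([3,10],1),
 ([4,5],1),
 ([4,6,4,6,9],0),
 ([4,7],1),
 ([4,8,4,8,10],0),
 ([4,9],1),
 ([4,10],1)]
 [([5,6],1),
 ([5,7,5,7,10],0),
 ([5,8],1),
 ([5,9],1),
 ([5,10],1),
 ([6,7],1),
 ([6,8],1),
 ([6,9],1),
 ([6,10],1),
 ([7,8],1),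
 ([7,9],1),
 ([7,10],1),
 ([8,9],1),
 ([8,10],1),
 ([9,10],1)])

noncomputable def T3_n_1 : Net :=
 (Net.cons 4 (nat_lit 0x4)
 (Net.cons 1 (nat_lit 0x55)
 (Net.cons 2 (nat_lit 0x30)
 (Net.cons 4 (nat_lit 0xf04)
 Net.nil))))

noncomputable def T3_n_3 : Net :=
 (Net.cons 8 (nat_lit 0xac)
 (Net.cons 4 (nat_lit 0xc00)
 (Net.cons 2 (nat_lit 0x2020)
 (Net.cons 1 (nat_lit 0x1114)
 (Net.cons 2 (nat_lit 0x3201)
 (Net.cons 4 (nat_lit 0x702)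
 (Net.cons 8 (nat_lit 0x53)
 Net.nil)))))))

noncomputable def T3_n_4 : Net :=
 (Net.cons 8 (nat_lit 0x3a)
 (Net.cons 4 (nat_lit 0xa04)
 (Net.cons 2 (nat_lit 0x200)
 (Net.cons 1 (nat_lit 0x5415)
 (Net.cons 2 (nat_lit 0x3313)
 (Net.cons 4 (nat_lit 0x901)
 (Net.cons 8 (nat_lit 0xc5)
 Net.nil)))))))

noncomputable def T3_n_7 : Net :=
 (Net.cons 8 (nat_lit 0x82)
 (Net.cons 4 (nat_lit 0x800)
 (Net.cons 2 (nat_lit 0x2)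
 (Net.cons 1 (nat_lit 0x44)
 (Net.cons 2 (nat_lit 0x1302)
 (Net.cons 4 (nat_lit 0x801)
 (Net.cons 8 (nat_lit 0xaa)
 Net.nil)))))))

noncomputable def T3_n : List Net := [Net.nil,
 T3_n_1,
 Net.nil,
 T3_n_3,
 T3_n_4,
 Net.nil,
 Net.nil,
 T3_n_7]

theorem T3_n_ok : NetsOK 16 T3_n := netsOK_of (by decide +kernel)

theorem T3_n_rel : Rels (gp T3_n) T3_R := rels_of_relsB (k := 4) T3_n_ok (by norm_num) (by decide +kernel)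

theorem T3_fin : finB 16 T3_n [1,2,3,4,5,6,7,8,9,10] 16 (runH 16 T3_n (fun x p => ptInv (nth Net.nil T3_n x) p) iv T3_R [] ([2,5,6,8,9,10].map fun x => [x]) 0 []
  [1,5,9,13,17,21,0,8,12,24,40,44,48,52,56,60,64,68,72,76,80,92,108,112,116,120,124,128,132,136,140,144,148,152,156,164,180,196,200,204,8,76]
  (defsH 16 T3_n (ones 240) [1,3,4,7] (Nat.shiftLeft 1 0) 0)) = true := by decide +kernel

theorem T3_idx : Idx.{u} iv (T3_R ++ []) ([2,5,6,8,9,10].map fun x => [x]) [1,2,3,4,5,6,7,8,9,10] 16 :=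
  Reach.idx T3_n_ok (reach_runH T3_n_ok (fun x p _ => ptInv_gp T3_n_ok x p) T3_n_rel (reach_defsH T3_n_ok _ _ _ _ _ _) _ _) T3_fin (by norm_num)

end Cfsg.Lib.Comp.HdM
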